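import Mathlib

/-!
Auxiliary facts for the class number bound: numerical estimates and the order of a `p`-group of
permutations.
-/

set_option autoImplicit false

namespace Cfsg.Agent.Lib.ClassBound

theorem pgroup_card_pow_le {α : Type*} [Finite α] [Nonempty α] {p : ℕ} [Fact p.Prime]
    (P : Subgroup (Equiv.Perm α)) (hP : IsPGroup p P) :
    (Nat.card P) ^ (p - 1) ≤ p ^ (Nat.card α - 1) := by
  haveI := Fintype.ofFinite α
  classical
  have hp : p.Prime := Fact.out
  obtain ⟨k, hk⟩ := IsPGroup.iff_card.mp hP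
  have hdvd : p ^ k ∣ (Nat.card α).factorial := by
    rw [← hk, ← Nat.card_perm]
    exact Subgroup.card_subgroup_dvd_card P
  have hk' : k ≤ padicValNat p (Nat.card α).factorial :=
    (padicValNat_dvd_iff_le (Nat.factorial_ne_zero _)).mp hdvd
  have h := sub_one_mul_padicValNat_factorial (p := p) (Nat.card α)
  have hpos : 1 ≤ (p.digits (Nat.card α)).sum := by
    by_contra hc
    have h0 : (p.digits (Nat.card α)).sum = 0 := by omega
    have hne : Nat.card α ≠ 0 := Nat.card_pos.ne'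
    have hl := Nat.getLast_digit_ne_zero p hne
    exact hl (List.sum_eq_zero_iff.mp h0 _ (List.getLast_mem _))
  rw [hk, ← pow_mul]
  apply Nat.pow_le_pow_right hp.pos
  calc k * (p - 1) ≤ padicValNat p (Nat.card α).factorial * (p - 1) := Nat.mul_le_mul_right _ hk'
    _ = (p - 1) * padicValNat p (Nat.card α).factorial := mul_comm _ _
    _ ≤ Nat.card α - 1 := by omega

theorem pgroup_card_le_two_pow {α : Type*} [Finite α] (P : Subgroup (Equiv.Perm α))
    (hP : IsPGroup 2 P) : Nat.card P ≤ 2 ^ Nat.card α := by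
  haveI : Fact (Nat.Prime 2) := ⟨Nat.prime_two⟩
  rcases isEmpty_or_nonempty α with h | h
  · have : Subsingleton P := inferInstance
    rw [Nat.card_of_subsingleton (1 : P)]
    exact Nat.one_le_two_pow
  · have := pgroup_card_pow_le P hP
    simp only [Nat.add_one_sub_one, pow_one] at this
    exact this.trans (Nat.pow_le_pow_right (by norm_num) (Nat.sub_le _ _))

/-- Conditions on the constants used at the prime `p`. -/
structure Consts (p : ℕ) (A B δ : ℝ) : Prop where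
  one_le : 1 ≤ A
  nonneg : 0 ≤ δ
  step : A + δ ≤ B
  ratio : (p : ℝ) * B ≤ B ^ (p - 1)
  base : ((p : ℝ) - 1) * B ≤ δ * (B ^ (p - 1) - 1)

variable {p : ℕ} {A B δ : ℝ}

theorem Consts.one_le_B (h : Consts p A B δ) : 1 ≤ B := by
  linarith [h.one_le, h.step, h.nonneg]

theorem Consts.iter (h : Consts p A B δ) (hp : 1 ≤ p) :
    ∀ m : ℕ, ((p : ℝ) - 1) * (p : ℝ) ^ m * B ^ (m + 1) ≤ δ * (B ^ ((p - 1) * (m + 1)) - 1) := by
  intro m
  have hB := h.one_le_B
  have hp' : (1 : ℝ) ≤ p := by exact_mod_cast hp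
  induction m with
  | zero => simpa using h.base
  | succ m ih =>
    have e1 : ((p : ℝ) - 1) * (p : ℝ) ^ (m + 1) * B ^ (m + 1 + 1) =
        (((p : ℝ) - 1) * (p : ℝ) ^ m * B ^ (m + 1)) * ((p : ℝ) * B) := by ring
    have e2 : B ^ ((p - 1) * (m + 1 + 1)) = B ^ ((p - 1) * (m + 1)) * B ^ (p - 1) := by
      rw [← pow_add]; congr 1
    have hX : (1 : ℝ) ≤ B ^ (p - 1) := one_le_pow₀ hB
    have hY : (1 : ℝ) ≤ B ^ ((p - 1) * (m + 1)) := one_le_pow₀ hB
    rw [e1, e2]
    calc _ ≤ (δ * (B ^ ((p - 1) * (m + 1)) - 1)) * B ^ (p - 1) := by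
          apply mul_le_mul ih h.ratio (by positivity)
          exact mul_nonneg h.nonneg (by linarith)
      _ ≤ δ * (B ^ ((p - 1) * (m + 1)) * B ^ (p - 1) - 1) := by nlinarith [h.nonneg]

theorem Consts.combine (h : Consts p A B δ) (hp : 2 ≤ p) (m : ℕ) (hm : 1 ≤ m) (w : ℝ)
    (hw0 : 0 ≤ w) (hw : w ≤ B ^ m - δ) :
    w ^ p + ((p : ℝ) - 1) * (p : ℝ) ^ (m - 1) * B ^ m ≤ B ^ (p * m) - δ := by
  have hB := h.one_le_B
  obtain ⟨m, rfl⟩ : ∃ k, m = k + 1 := ⟨m - 1, by omega⟩
  have hi := h.iter (by omega) m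
  have hwB : w ≤ B ^ (m + 1) := le_trans hw (by linarith [h.nonneg])
  have h1 : w ^ p ≤ (B ^ (m + 1)) ^ (p - 1) * (B ^ (m + 1) - δ) := by
    calc w ^ p = w ^ (p - 1) * w := by rw [← pow_succ]; congr 1; omega
      _ ≤ _ := by
        apply mul_le_mul (pow_le_pow_left₀ hw0 hwB _) hw hw0
        positivity
  have e : B ^ (p * (m + 1)) = (B ^ (m + 1)) ^ (p - 1) * B ^ (m + 1) := by
    rw [← pow_succ, ← pow_mul]; congr 1
    rw [Nat.sub_add_cancel (by omega : 1 ≤ p), mul_comm]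
  have e' : B ^ ((p - 1) * (m + 1)) = (B ^ (m + 1)) ^ (p - 1) := by
    rw [← pow_mul, mul_comm]
  rw [e'] at hi
  rw [Nat.add_sub_cancel, e]
  nlinarith [h1, hi]

theorem Consts.prod_le (h : Consts p A B δ) {ι : Type*} (s : Finset ι) (d : ι → ℕ)
    (hs : s.Nonempty) (w : ι → ℝ) (hw0 : ∀ i ∈ s, 0 ≤ w i)
    (hw : ∀ i ∈ s, w i ≤ B ^ d i - δ) :
    ∏ i ∈ s, w i ≤ B ^ (∑ i ∈ s, d i) - δ := by
  have hB := h.one_le_B
  classical
  induction hs using Finset.Nonempty.cons_induction with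
  | singleton a => simpa using hw a (by simp)
  | cons a s has hsne ih =>
    rw [Finset.prod_cons, Finset.sum_cons, pow_add]
    have hwa := hw a (by simp)
    have ih' := ih (fun i hi => hw0 i (by simp [hi])) (fun i hi => hw i (by simp [hi]))
    have hq : 0 ≤ ∏ i ∈ s, w i := Finset.prod_nonneg fun i hi => hw0 i (by simp [hi])
    have hY : (1 : ℝ) ≤ B ^ d a := one_le_pow₀ hB
    calc w a * ∏ i ∈ s, w i ≤ B ^ d a * (B ^ (∑ i ∈ s, d i) - δ) :=
          mul_le_mul (by linarith [h.nonneg]) ih' hq (by linarith)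
      _ ≤ _ := by nlinarith [h.nonneg]

end Cfsg.Agent.Lib.ClassBound
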