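import Cfsg.Agent.Lib.ClassBound.Sum

/-!
The number of conjugacy classes of a permutation group of degree `d` is at most `4 ^ d`.
-/

set_option autoImplicit false

universe u

namespace Cfsg.Agent.Lib.ClassBound

/-- All prime divisors of the order of `g` are at most `n`. -/
def SmallPrimes {G : Type*} [Monoid G] (n : ℕ) (g : G) : Prop :=
  ∀ q : ℕ, q.Prime → q ∣ orderOf g → q ≤ n

/-- Number of classes of elements with all prime divisors of the order at most `n`. -/
noncomputable def smallCount (n : ℕ) (G : Type*) [Group G] : ℕ :=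
  Nat.card {c : ConjClasses G // ∃ g, ConjClasses.mk g = c ∧ SmallPrimes n g}

/-- Two `p'`-elements congruent modulo a normal `p`-subgroup are conjugate. -/
theorem isConj_of_mem_normal_pgroup {C : Type*} [Group C] [Finite C] {p : ℕ} [hp : Fact p.Prime]
    (K : Subgroup C) [K.Normal] (hK : IsPGroup p K) {y z : C} (hy : ¬ p ∣ orderOf y)
    (hz : ¬ p ∣ orderOf z) (h : y⁻¹ * z ∈ K) : IsConj y z := by
  obtain ⟨s, hs⟩ := IsPGroup.iff_card.mp hK
  have hcop : Nat.Coprime (p ^ s) (orderOf y * orderOf z) :=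
    Nat.Coprime.pow_left _ (hp.out.coprime_iff_not_dvd.mpr
      (fun hd => (hp.out.dvd_mul.mp hd).elim hy hz))
  obtain ⟨e, he0, he1⟩ := Nat.chineseRemainder hcop 0 1
  have hKe : ∀ u ∈ K, u ^ e = 1 := by
    intro u hu
    obtain ⟨c, hc⟩ : p ^ s ∣ e := Nat.modEq_zero_iff_dvd.mp he0
    have h1 : u ^ (p ^ s) = 1 := by
      have h2 := pow_card_eq_one' (x := (⟨u, hu⟩ : K))
      rw [hs] at h2
      exact congrArg Subtype.val h2
    rw [hc, pow_mul, h1, one_pow]
  have hye : y ^ e = y := by
    have := pow_eq_pow_iff_modEq.mpr (he1.of_mul_right (orderOf z))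
    rwa [pow_one] at this
  have hze : z ^ e = z := by
    have := pow_eq_pow_iff_modEq.mpr (he1.of_mul_left (orderOf y))
    rwa [pow_one] at this
  have hO : ∀ w ∈ Set.range (fun k : K => (k : C) * y * (k : C)⁻¹),
      ∃ k : K, (k : C) * y * (k : C)⁻¹ = w := fun w hw => hw
  choose r hr using hO
  let t : K → C := fun k => (r _ ⟨k, rfl⟩ : K)
  have ht : ∀ k : K, t k * y * (t k)⁻¹ = (k : C) * y * (k : C)⁻¹ := fun k => hr _ ⟨k, rfl⟩
  have htc : ∀ k k' : K, (k : C) * y * (k : C)⁻¹ = (k' : C) * y * (k' : C)⁻¹ → t k = t k' := by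
    intro k k' e0
    simp only [t]
    congr 2
  let Φ : K → C := fun k => (k : C) * y * (k : C)⁻¹ * ((k : C) * (t k)⁻¹)
  have htK : ∀ k : K, t k ∈ K := fun k => SetLike.coe_mem _
  have hΦe : ∀ k : K, Φ k ^ e = (k : C) * y * (k : C)⁻¹ := by
    intro k
    have hcomm : Commute ((k : C) * y * (k : C)⁻¹) ((k : C) * (t k)⁻¹) := by
      show _ * _ = _ * _
      calc (k : C) * y * (k : C)⁻¹ * ((k : C) * (t k)⁻¹)
          = (k : C) * (t k)⁻¹ * (t k * y * (t k)⁻¹) := by group
        _ = _ := by rw [ht k]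
    show ((k : C) * y * (k : C)⁻¹ * ((k : C) * (t k)⁻¹)) ^ e = _
    rw [hcomm.mul_pow, conj_pow, hye, hKe _ (K.mul_mem k.2 (K.inv_mem (htK k))), mul_one]
  have hinj : Function.Injective Φ := by
    intro k k' e0
    have e1 : (k : C) * y * (k : C)⁻¹ = (k' : C) * y * (k' : C)⁻¹ := by
      rw [← hΦe k, ← hΦe k', e0]
    have e2 : Φ k = Φ k' := e0
    simp only [Φ] at e2
    rw [e1, htc k k' e1] at e2
    exact Subtype.ext (mul_right_cancel (mul_left_cancel e2))
  have hmem : ∀ k : K, y⁻¹ * Φ k ∈ K := by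
    intro k
    have : y⁻¹ * Φ k = (y⁻¹ * (k : C) * y⁻¹⁻¹) * ((k : C)⁻¹ * ((k : C) * (t k)⁻¹)) := by
      simp only [Φ]; group
    rw [this]
    exact K.mul_mem (Subgroup.Normal.conj_mem inferInstance _ k.2 _)
      (K.mul_mem (K.inv_mem k.2) (K.mul_mem k.2 (K.inv_mem (htK k))))
  let Ψ : K → K := fun k => ⟨_, hmem k⟩
  have hΨ : Function.Injective Ψ := fun k k' e0 =>
    hinj (mul_left_cancel (congrArg Subtype.val e0))
  obtain ⟨k, hk⟩ := Finite.surjective_of_injective hΨ ⟨_, h⟩
  have hk' : Φ k = z := mul_left_cancel (congrArg Subtype.val hk)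
  rw [isConj_iff]
  exact ⟨k, by rw [← hΦe k, hk', hze]⟩

theorem smallCount_step {α : Type u} [Finite α] [Nonempty α] (G : Subgroup (Equiv.Perm α))
    {p : ℕ} [hp : Fact p.Prime] {n : ℕ} (hpn : p = n + 1) {A B δ : ℝ} (hc : Consts p A B δ)
    (hind : ∀ (β : Type u) [Finite β] (H : Subgroup (Equiv.Perm β)),
      (smallCount n H : ℝ) ≤ A ^ Nat.card β) :
    (smallCount p G : ℝ) ≤ B ^ Nat.card α := by
  classical
  haveI := Fintype.ofFinite α
  obtain ⟨P⟩ : Nonempty (Sylow p G) := inferInstance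
  let T : ↥(P : Subgroup G) → Type u := fun x =>
    {c : ConjClasses ↥(Subgroup.centralizer ({(x : G)} : Set G)) //
      ∃ y, ConjClasses.mk y = c ∧ SmallPrimes n y}
  -- decomposition of an element into its `p`-part and its `p'`-part
  have hdec : ∀ c : {c : ConjClasses G // ∃ g, ConjClasses.mk g = c ∧ SmallPrimes p g},
      ∃ (x : ↥(P : Subgroup G)) (y : Subgroup.centralizer ({(x : G)} : Set G)),
        SmallPrimes n y ∧ ConjClasses.mk ((x : G) * (y : G)) = c.1 := by
    rintro ⟨_, g, rfl, hg⟩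
    obtain ⟨k, r, hr, hkr⟩ := Nat.exists_eq_pow_mul_and_not_dvd (orderOf_pos g).ne' p hp.out.ne_one
    have hcop : Nat.Coprime (p ^ k) r :=
      Nat.Coprime.pow_left _ (hp.out.coprime_iff_not_dvd.mpr hr)
    obtain ⟨e, he0, he1⟩ := Nat.chineseRemainder hcop 1 0
    obtain ⟨f, hf0, hf1⟩ := Nat.chineseRemainder hcop 0 1
    have hef : g ^ e * g ^ f = g := by
      rw [← pow_add]
      conv_rhs => rw [← pow_one g]
      rw [pow_eq_pow_iff_modEq, hkr, ← Nat.modEq_and_modEq_iff_modEq_mul hcop]
      exact ⟨by simpa using he0.add hf0, by simpa using he1.add hf1⟩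
    have hx : IsPGroup p (Subgroup.zpowers (g ^ e)) := by
      apply IsPGroup.of_card_dvd_pow (n := k)
      rw [Nat.card_zpowers]
      apply orderOf_dvd_of_pow_eq_one
      rw [← pow_mul]
      apply orderOf_dvd_iff_pow_eq_one.mp
      rw [hkr, mul_comm e]
      exact Nat.mul_dvd_mul_left _ (Nat.modEq_zero_iff_dvd.mp he1)
    have hy : orderOf (g ^ f) ∣ r := by
      apply orderOf_dvd_of_pow_eq_one
      rw [← pow_mul]
      apply orderOf_dvd_iff_pow_eq_one.mp
      rw [hkr]
      exact Nat.mul_dvd_mul_right (Nat.modEq_zero_iff_dvd.mp hf0) _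
    obtain ⟨Q, hQ⟩ := hx.exists_le_sylow
    obtain ⟨w, hw⟩ := MulAction.exists_smul_eq G Q P
    have hxP : w * g ^ e * w⁻¹ ∈ (P : Subgroup G) := by
      rw [← hw, Sylow.coe_subgroup_smul]
      exact Subgroup.smul_mem_pointwise_smul _ _ _ (hQ (Subgroup.mem_zpowers _))
    have hyC : w * g ^ f * w⁻¹ ∈ Subgroup.centralizer ({w * g ^ e * w⁻¹} : Set G) := by
      rw [Subgroup.mem_centralizer_singleton_iff]
      have hc' : g ^ f * g ^ e = g ^ e * g ^ f := by rw [← pow_add, ← pow_add, add_comm]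
      calc w * g ^ f * w⁻¹ * (w * g ^ e * w⁻¹) = w * (g ^ f * g ^ e) * w⁻¹ := by group
        _ = _ := by rw [hc']; group
    refine ⟨⟨_, hxP⟩, ⟨_, hyC⟩, ?_, ?_⟩
    · intro q hq hqd
      rw [← Subgroup.orderOf_coe] at hqd
      simp only at hqd
      rw [← MulAut.conj_apply, MulEquiv.orderOf_eq] at hqd
      have hqr : q ∣ r := hqd.trans hy
      have hle : q ≤ p := hg q hq (hkr ▸ hqr.mul_left _)
      have hne : q ≠ p := fun h0 => hr (h0 ▸ hqr)
      omega
    · show ConjClasses.mk (w * g ^ e * w⁻¹ * (w * g ^ f * w⁻¹)) = ConjClasses.mk g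
      rw [ConjClasses.mk_eq_mk_iff_isConj]
      apply IsConj.symm
      rw [isConj_iff]
      refine ⟨w, ?_⟩
      calc w * g * w⁻¹ = w * (g ^ e * g ^ f) * w⁻¹ := by rw [hef]
        _ = _ := by group
  choose X Y hY hXY using hdec
  have h1 : smallCount p G ≤ Nat.card (Σ x : ↥(P : Subgroup G), T x) := by
    refine Nat.card_le_card_of_injective (fun c => ⟨X c, ⟨ConjClasses.mk (Y c), Y c, rfl, hY c⟩⟩) ?_
    intro c c' h
    have key : ∀ (x x' : ↥(P : Subgroup G)) (y : Subgroup.centralizer ({(x : G)} : Set G))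
        (y' : Subgroup.centralizer ({(x' : G)} : Set G)) (py py'),
        (⟨x, ⟨ConjClasses.mk y, py⟩⟩ : Σ x : ↥(P : Subgroup G), T x) =
          ⟨x', ⟨ConjClasses.mk y', py'⟩⟩ →
        ConjClasses.mk ((x : G) * (y : G)) = ConjClasses.mk ((x' : G) * (y' : G)) := by
      intro x x' y y' py py' e0
      have e1 : x = x' := congrArg Sigma.fst e0
      subst e1
      have e2 : ConjClasses.mk y = ConjClasses.mk y' :=
        congrArg Subtype.val (eq_of_heq (Sigma.mk.inj_iff.mp e0).2)
      rw [ConjClasses.mk_eq_mk_iff_isConj, isConj_iff] at e2 ⊢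
      obtain ⟨z, hz⟩ := e2
      refine ⟨(z : G), ?_⟩
      have hzx := Subgroup.mem_centralizer_singleton_iff.mp z.2
      rw [← mul_assoc, hzx, ← hz]
      push_cast
      group
    exact Subtype.ext (by rw [← hXY c, ← hXY c']; exact key _ _ _ _ _ _ h)
  -- classes of `p'`-elements of a centraliser
  have h2 : ∀ x : ↥(P : Subgroup G), (Nat.card (T x) : ℝ) ≤ A ^ cyc ((x : G) : Equiv.Perm α) := by
    intro x
    obtain ⟨s, hs⟩ := P.2 x
    set σ : Equiv.Perm α := ((x : G) : Equiv.Perm α) with hσ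
    have hσs : σ ^ (p ^ s) = 1 := by
      rw [hσ, ← SubmonoidClass.coe_pow, ← SubmonoidClass.coe_pow, hs]
      rfl
    have hcomm : ∀ c : Subgroup.centralizer ({(x : G)} : Set G),
        Commute σ ((c : G) : Equiv.Perm α) := fun c =>
      congrArg Subtype.val (Subgroup.mem_centralizer_singleton_iff.mp c.2).symm
    have hmap : ∀ (c : Subgroup.centralizer ({(x : G)} : Set G)) (a b : α),
        σ.SameCycle a b → σ.SameCycle (((c : G) : Equiv.Perm α) a) (((c : G) : Equiv.Perm α) b) := by
      rintro c a b ⟨i, hi⟩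
      refine ⟨i, ?_⟩
      rw [← hi]
      exact Equiv.congr_fun ((hcomm c).zpow_left i).eq a
    let Q := Quotient (Equiv.Perm.SameCycle.setoid σ)
    let φ : Subgroup.centralizer ({(x : G)} : Set G) →* Equiv.Perm Q :=
      MonoidHom.mk'
        (fun c =>
          { toFun := Quotient.map' (fun a => ((c : G) : Equiv.Perm α) a) (hmap c)
            invFun := Quotient.map' (fun a => (((c⁻¹ : Subgroup.centralizer ({(x : G)} : Set G)) : G) :
              Equiv.Perm α) a) (hmap c⁻¹)
            left_inv := fun u => by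
              obtain ⟨a, rfl⟩ := Quotient.exists_rep u
              exact congrArg (Quotient.mk _) (((c : G) : Equiv.Perm α).symm_apply_apply a)
            right_inv := fun u => by
              obtain ⟨a, rfl⟩ := Quotient.exists_rep u
              exact congrArg (Quotient.mk _) (((c : G) : Equiv.Perm α).apply_symm_apply a) })
        (fun c c' => by
          apply Equiv.ext
          intro u
          obtain ⟨a, rfl⟩ := Quotient.exists_rep u
          rfl)
    have hφ : ∀ c a, φ c (Quotient.mk _ a) = Quotient.mk _ (((c : G) : Equiv.Perm α) a) :=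
      fun c a => rfl
    have hker : IsPGroup p φ.ker := by
      rintro ⟨c, hc0⟩
      refine ⟨s, ?_⟩
      apply Subtype.ext
      apply Subtype.ext
      apply Subtype.ext
      apply Equiv.ext
      intro a
      have hca : φ c = 1 := hc0
      obtain ⟨i, hi⟩ : σ.SameCycle a (((c : G) : Equiv.Perm α) a) := by
        apply Equiv.Perm.SameCycle.symm
        apply Quotient.exact (s := Equiv.Perm.SameCycle.setoid σ)
        rw [← hφ, hca]
        rfl
      have key : ∀ j : ℕ, (((c : G) : Equiv.Perm α) ^ j) a = ((σ ^ i) ^ j) a := by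
        intro j
        induction j with
        | zero => rfl
        | succ j ihj =>
          rw [pow_succ, pow_succ', Equiv.Perm.mul_apply, Equiv.Perm.mul_apply, ← hi, ← ihj]
          exact Equiv.congr_fun (((hcomm c).zpow_left i).pow_right j).symm.eq a
      show (((c : G) : Equiv.Perm α) ^ (p ^ s)) a = a
      rw [key, ← zpow_natCast, ← zpow_mul, mul_comm, zpow_mul, zpow_natCast, hσs, one_zpow]
      rfl
    have hcard : Nat.card Q = cyc σ := rfl
    rw [← hcard]
    refine le_trans ?_ (hind Q φ.range)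
    rw [Nat.cast_le]
    refine Nat.card_le_card_of_injective
      (fun c : T x => ⟨ConjClasses.map φ.rangeRestrict c.1, ?_⟩) ?_
    · obtain ⟨y, hy, hys⟩ := c.2
      exact ⟨φ.rangeRestrict y, by rw [← hy]; rfl,
        fun q hq hqd => hys q hq (hqd.trans (orderOf_map_dvd _ y))⟩
    · rintro ⟨c, y, rfl, hy⟩ ⟨c', z, rfl, hz⟩ e0
      have e1 : ConjClasses.map φ.rangeRestrict (ConjClasses.mk y) =
          ConjClasses.map φ.rangeRestrict (ConjClasses.mk z) := congrArg Subtype.val e0
      have e2 : IsConj (φ.rangeRestrict y) (φ.rangeRestrict z) :=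
        ConjClasses.mk_eq_mk_iff_isConj.mp e1
      obtain ⟨w0, hw0⟩ := isConj_iff.mp e2
      obtain ⟨w, rfl⟩ := φ.rangeRestrict_surjective w0
      apply Subtype.ext
      rw [ConjClasses.mk_eq_mk_iff_isConj]
      refine (isConj_iff.mpr ⟨w, rfl⟩).trans (isConj_of_mem_normal_pgroup φ.ker hker ?_ ?_ ?_)
      · rw [← MulAut.conj_apply, MulEquiv.orderOf_eq]
        intro hd
        have := hy p hp.out hd
        omega
      · intro hd
        have := hz p hp.out hd
        omega
      · rw [MonoidHom.mem_ker, map_mul, map_inv, inv_mul_eq_one]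
        have e3 := congrArg Subtype.val hw0
        simp only [Subgroup.coe_mul, Subgroup.coe_inv, MonoidHom.coe_rangeRestrict] at e3
        rw [map_mul, map_mul, map_inv, e3]
  -- the weighted sum
  haveI : Fintype ↥(P : Subgroup G) := Fintype.ofFinite _
  let P' : Subgroup (Equiv.Perm α) := (P : Subgroup G).map G.subtype
  haveI : Fintype P' := Fintype.ofFinite _
  have h3 : ∑ x : ↥(P : Subgroup G), A ^ cyc ((x : G) : Equiv.Perm α) = wsum A P' := by
    rw [wsum_eq]
    exact Fintype.sum_equiv (Subgroup.equivMapOfInjective _ G.subtype G.subtype_injective).toEquiv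
      _ _ (fun x => rfl)
  have h4 := wsum_le (p := p) hc (Nat.card α) Nat.card_pos α rfl P' (P.2.map G.subtype)
  calc (smallCount p G : ℝ) ≤ (Nat.card (Σ x : ↥(P : Subgroup G), T x) : ℝ) := by exact_mod_cast h1
    _ = ∑ x : ↥(P : Subgroup G), (Nat.card (T x) : ℝ) := by rw [Nat.card_sigma, Nat.cast_sum]
    _ ≤ ∑ x : ↥(P : Subgroup G), A ^ cyc ((x : G) : Equiv.Perm α) :=
        Finset.sum_le_sum fun x _ => h2 x
    _ ≤ B ^ Nat.card α := by rw [h3]; linarith [h4, hc.nonneg]

/-- The bound used at stage `n`. -/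
noncomputable def stage (n : ℕ) : ℝ := 4 - 8 / 2 ^ n

theorem stage_bounds {n : ℕ} (hn : 2 ≤ n) : 2 ≤ stage n ∧ stage n ≤ 4 := by
  have h4 : (4 : ℝ) ≤ 2 ^ n := by
    calc (4 : ℝ) = 2 ^ 2 := by norm_num
      _ ≤ 2 ^ n := pow_le_pow_right₀ (by norm_num) hn
  have h0 : (0 : ℝ) ≤ 8 / 2 ^ n := by positivity
  have h8 : (8 : ℝ) / 2 ^ n ≤ 2 := by
    rw [div_le_iff₀ (by positivity)]
    linarith
  unfold stage
  constructor <;> linarith

theorem three_pow_ge (j : ℕ) (hj : 2 ≤ j) : (j : ℝ) * 2 ^ j + 1 ≤ 3 ^ j := by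
  induction j, hj using Nat.le_induction with
  | base => norm_num
  | succ j hj ih =>
    have hj' : (2 : ℝ) ≤ j := by exact_mod_cast hj
    have h2 : (0 : ℝ) ≤ 2 ^ j := by positivity
    push_cast
    rw [pow_succ, pow_succ]
    nlinarith [mul_nonneg h2 (by linarith : (0 : ℝ) ≤ (j : ℝ) - 2)]

theorem consts_stage {n : ℕ} (hn : 2 ≤ n) :
    Consts (n + 1) (stage n) (stage (n + 1)) (8 / 2 ^ (n + 1)) := by
  obtain ⟨h2, -⟩ := stage_bounds hn
  obtain ⟨-, hB4⟩ := stage_bounds (show 2 ≤ n + 1 by omega)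
  have hB3 : (3 : ℝ) ≤ stage (n + 1) := by
    have h4 : (8 : ℝ) ≤ 2 ^ (n + 1) := by
      calc (8 : ℝ) = 2 ^ 3 := by norm_num
        _ ≤ _ := pow_le_pow_right₀ (by norm_num) (by omega)
    have : (8 : ℝ) / 2 ^ (n + 1) ≤ 1 := (div_le_one (by positivity)).mpr h4
    unfold stage
    linarith
  have hpow : ∀ j : ℕ, (3 : ℝ) ^ j ≤ stage (n + 1) ^ j := fun j =>
    pow_le_pow_left₀ (by norm_num) hB3 j
  have hj := three_pow_ge n hn
  have hjn : (2 : ℝ) ≤ n := by exact_mod_cast hn
  constructor
  · linarith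
  · positivity
  · unfold stage
    have : (8 : ℝ) / 2 ^ n = 2 * (8 / 2 ^ (n + 1)) := by rw [pow_succ]; field_simp
    linarith
  · rw [Nat.add_sub_cancel]
    obtain ⟨k, rfl⟩ : ∃ k, n = k + 1 := ⟨n - 1, by omega⟩
    rw [pow_succ (stage _)]
    apply mul_le_mul_of_nonneg_right ?_ (by linarith)
    refine le_trans ?_ (hpow k)
    have key : ∀ k : ℕ, 1 ≤ k → ((k : ℝ) + 2) ≤ 3 ^ k := by
      intro k hk
      induction k, hk using Nat.le_induction with
      | base => norm_num
      | succ k hk ih =>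
        have : (1 : ℝ) ≤ k := by exact_mod_cast hk
        push_cast
        rw [pow_succ]
        nlinarith
    push_cast
    linarith [key k (by omega)]
  · rw [Nat.add_sub_cancel]
    push_cast
    have h1 : ((n : ℝ) + 1 - 1) * stage (n + 1) ≤ 4 * n := by nlinarith
    have h2' : (8 : ℝ) / 2 ^ (n + 1) * (stage (n + 1) ^ n - 1) ≥
        8 / 2 ^ (n + 1) * ((n : ℝ) * 2 ^ n) :=
      mul_le_mul_of_nonneg_left (by linarith [hpow n]) (by positivity)
    have h3 : (8 : ℝ) / 2 ^ (n + 1) * ((n : ℝ) * 2 ^ n) = 4 * n := by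
      rw [pow_succ]; field_simp; ring
    linarith

theorem smallCount_le : ∀ {n : ℕ}, 2 ≤ n → ∀ (α : Type u) [Finite α] (G : Subgroup (Equiv.Perm α)),
    (smallCount n G : ℝ) ≤ stage n ^ Nat.card α := by
  intro n hn
  induction n, hn using Nat.le_induction with
  | base =>
    intro α _ G
    haveI : Fact (Nat.Prime 2) := ⟨Nat.prime_two⟩
    obtain ⟨P⟩ : Nonempty (Sylow 2 G) := inferInstance
    have hs : stage 2 = 2 := by unfold stage; norm_num
    have h1 : smallCount 2 G ≤ Nat.card ↥(P : Subgroup G) := by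
      have hdec : ∀ c : {c : ConjClasses G // ∃ g, ConjClasses.mk g = c ∧ SmallPrimes 2 g},
          ∃ x : ↥(P : Subgroup G), ConjClasses.mk (x : G) = c.1 := by
        rintro ⟨_, g, rfl, hg⟩
        have hx : IsPGroup 2 (Subgroup.zpowers g) := by
          apply IsPGroup.of_card (n := (orderOf g).primeFactorsList.length)
          rw [Nat.card_zpowers]
          exact Nat.eq_prime_pow_of_unique_prime_dvd (orderOf_pos g).ne'
            (fun {q} hq hqd => le_antisymm (hg q hq hqd) hq.two_le)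
        obtain ⟨Q, hQ⟩ := hx.exists_le_sylow
        obtain ⟨w, hw⟩ := MulAction.exists_smul_eq G Q P
        refine ⟨⟨w * g * w⁻¹, ?_⟩, ?_⟩
        · rw [← hw, Sylow.coe_subgroup_smul]
          exact Subgroup.smul_mem_pointwise_smul _ _ _ (hQ (Subgroup.mem_zpowers _))
        · rw [ConjClasses.mk_eq_mk_iff_isConj]
          exact (isConj_iff.mpr ⟨w, rfl⟩).symm
      choose X hX using hdec
      exact Nat.card_le_card_of_injective X (fun c c' e => Subtype.ext (by rw [← hX, ← hX, e]))
    have h2 : Nat.card ↥(P : Subgroup G) ≤ 2 ^ Nat.card α := by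
      rw [Nat.card_congr
        (Subgroup.equivMapOfInjective _ G.subtype G.subtype_injective).toEquiv]
      exact pgroup_card_le_two_pow _ (P.2.map G.subtype)
    rw [hs]
    exact_mod_cast h1.trans h2
  | succ n hn ih =>
    intro α _ G
    obtain ⟨h2, -⟩ := stage_bounds hn
    rcases isEmpty_or_nonempty α with hα | hα
    · rw [Nat.card_of_isEmpty, pow_zero]
      haveI : Subsingleton (ConjClasses G) := ConjClasses.mk_surjective.subsingleton
      have : smallCount (n + 1) G ≤ 1 := Finite.card_le_one_iff_subsingleton.mpr inferInstance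
      exact_mod_cast this
    by_cases hp : (n + 1).Prime
    · haveI : Fact (n + 1).Prime := ⟨hp⟩
      exact smallCount_step G rfl (consts_stage hn) (fun β _ H => ih β H)
    · have hle : stage n ≤ stage (n + 1) := by
        have := (consts_stage hn).step
        have := (consts_stage hn).nonneg
        linarith
      refine le_trans ?_ ((ih α G).trans (pow_le_pow_left₀ (by linarith) hle _))
      rw [Nat.cast_le]
      refine Nat.card_le_card_of_injective (fun c => ⟨c.1, ?_⟩)
        (fun c c' e => Subtype.ext (by simpa using e))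
      obtain ⟨g, hg, hgs⟩ := c.2
      refine ⟨g, hg, fun q hq hqd => ?_⟩
      have := hgs q hq hqd
      have hne : q ≠ n + 1 := fun h0 => hp (h0 ▸ hq)
      omega

/-- A permutation group of degree `d` has at most `4 ^ d` conjugacy classes. -/
theorem card_conjClasses_le_four_pow {α : Type u} [Finite α] (G : Subgroup (Equiv.Perm α)) :
    Nat.card (ConjClasses G) ≤ 4 ^ Nat.card α := by
  set n := max 2 (Nat.card α) with hn
  have hn2 : 2 ≤ n := le_max_left _ _
  have h := smallCount_le hn2 α G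
  have hall : ∀ c : ConjClasses G, ∃ g, ConjClasses.mk g = c ∧ SmallPrimes n g := by
    intro c
    obtain ⟨g, rfl⟩ := ConjClasses.mk_surjective c
    refine ⟨g, rfl, fun q hq hqd => le_trans ?_ (le_max_right _ _)⟩
    haveI := Fintype.ofFinite α
    have : q ∣ (Nat.card α).factorial := by
      rw [← Nat.card_perm]
      exact hqd.trans ((Subgroup.orderOf_coe g).symm ▸ orderOf_dvd_natCard _)
    exact (hq.dvd_factorial).mp this
  have e : Nat.card (ConjClasses G) = smallCount n G :=
    (Nat.card_congr (Equiv.subtypeUnivEquiv hall)).symm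
  have h4 : (smallCount n G : ℝ) ≤ 4 ^ Nat.card α := by
    obtain ⟨a, b⟩ := stage_bounds hn2
    exact h.trans (pow_le_pow_left₀ (by linarith) b _)
  rw [e]
  exact_mod_cast h4

end Cfsg.Agent.Lib.ClassBound
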