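import Cfsg.Agent.Lib.ClassBound.Basic

/-!
Weighted sums over the elements of a `p`-group of permutations, the weight of an element being
a power of a constant to the number of its cycles.
-/

set_option autoImplicit false

universe u

namespace Cfsg.Agent.Lib.ClassBound

variable {α : Type u}

/-- Number of cycles of a permutation, fixed points included. -/
noncomputable def cyc (x : Equiv.Perm α) : ℕ :=
  Nat.card (Quotient (Equiv.Perm.SameCycle.setoid x))

/-- Sum over a group of permutations of `A ^ (number of cycles)`. -/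
noncomputable def wsum (A : ℝ) (P : Subgroup (Equiv.Perm α)) : ℝ :=
  ∑ᶠ x : P, A ^ cyc (x : Equiv.Perm α)

theorem wsum_eq [Finite α] (A : ℝ) (P : Subgroup (Equiv.Perm α)) [Fintype P] :
    wsum A P = ∑ x : P, A ^ cyc (x : Equiv.Perm α) :=
  finsum_eq_sum_of_fintype _

theorem wsum_nonneg [Finite α] {A : ℝ} (hA : 0 ≤ A) (P : Subgroup (Equiv.Perm α)) :
    0 ≤ wsum A P :=
  finsum_nonneg fun _ => pow_nonneg hA _

theorem cyc_eq_sum [Finite α] {ι : Type*} [Fintype ι] (f : α → ι) (x : Equiv.Perm α)
    (hx : ∀ a, f (x a) = f a) :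
    cyc x = ∑ i, cyc (x.subtypePerm (p := fun a => f a = i) (fun a => by rw [hx a])) := by
  classical
  unfold cyc
  rw [← Nat.card_sigma]
  refine (Nat.card_eq_of_bijective
    (fun z : Σ i, Quotient (Equiv.Perm.SameCycle.setoid
        (x.subtypePerm (p := fun a => f a = i) (fun a => by rw [hx a]))) =>
      Quotient.map' (fun a => a.1) (fun a b hab => Equiv.Perm.sameCycle_subtypePerm.mp hab) z.2)
    ⟨?_, ?_⟩).symm
  · rintro ⟨i, z⟩ ⟨j, w⟩ h
    obtain ⟨a, rfl⟩ := Quotient.exists_rep z
    obtain ⟨b, rfl⟩ := Quotient.exists_rep w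
    have hab : x.SameCycle a.1 b.1 := Quotient.exact h
    have hij : i = j := by
      obtain ⟨n, hn⟩ := hab
      have : ∀ (n : ℤ) c, f ((x ^ n) c) = f c := by
        intro n
        induction n using Int.induction_on with
        | zero => intro c; simp
        | succ k ih =>
          intro c
          rw [zpow_add, zpow_one, Equiv.Perm.mul_apply, ih, hx]
        | pred k ih =>
          intro c
          rw [zpow_sub, zpow_one, Equiv.Perm.mul_apply, ih]
          conv_rhs => rw [← x.apply_symm_apply c, hx]
          rfl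
      calc i = f a.1 := a.2.symm
        _ = f ((x ^ n) a.1) := (this n _).symm
        _ = f b.1 := by rw [hn]
        _ = j := b.2
    subst hij
    refine Sigma.ext rfl (heq_of_eq ?_)
    exact Quotient.sound (Equiv.Perm.sameCycle_subtypePerm.mpr hab)
  · intro z
    obtain ⟨a, rfl⟩ := Quotient.exists_rep z
    exact ⟨⟨f a, Quotient.mk _ ⟨a, rfl⟩⟩, rfl⟩

/-- Restriction to a fibre of an invariant function. -/
def rest {ι : Type*} (f : α → ι) (P : Subgroup (Equiv.Perm α))
    (hf : ∀ x ∈ P, ∀ a, f (x a) = f a) (i : ι) : P →* Equiv.Perm {a // f a = i} where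
  toFun x := (x : Equiv.Perm α).subtypePerm (fun a => by rw [hf x x.2 a])
  map_one' := by ext; rfl
  map_mul' x y := by ext; rfl

theorem rest_injective {ι : Type*} (f : α → ι) (P : Subgroup (Equiv.Perm α))
    (hf : ∀ x ∈ P, ∀ a, f (x a) = f a) :
    Function.Injective fun (x : P) (i : ι) => (rest f P hf i).rangeRestrict x := by
  intro x y h
  apply Subtype.ext
  ext a
  have := congrArg (fun z => ((z (f a)).1 ⟨a, rfl⟩).1) h
  exact this

theorem wsum_le_prod [Finite α] {ι : Type*} [Fintype ι] (f : α → ι) (P : Subgroup (Equiv.Perm α))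
    (hf : ∀ x ∈ P, ∀ a, f (x a) = f a) {A : ℝ} (hA : 0 ≤ A) :
    wsum A P ≤ ∏ i, wsum A (rest f P hf i).range := by
  classical
  haveI := Fintype.ofFinite α
  haveI : ∀ i, Fintype (rest f P hf i).range := fun i => Fintype.ofFinite _
  haveI : Fintype P := Fintype.ofFinite _
  rw [wsum_eq, Finset.prod_congr rfl (fun i _ => wsum_eq A _), Fintype.prod_sum]
  set e := fun (x : P) (i : ι) => (rest f P hf i).rangeRestrict x with he
  have h1 : ∀ x : P, A ^ cyc (x : Equiv.Perm α) =
      ∏ i, A ^ cyc ((e x i : (rest f P hf i).range) : Equiv.Perm {a // f a = i}) := by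
    intro x
    rw [Finset.prod_pow_eq_pow_sum, cyc_eq_sum f (x : Equiv.Perm α) (hf x x.2)]
    rfl
  rw [Finset.sum_congr rfl (fun x _ => h1 x)]
  rw [← Finset.sum_image (f := fun t => ∏ i, A ^ cyc ((t i : (rest f P hf i).range) :
    Equiv.Perm {a // f a = i})) (g := e) (fun a _ b _ h => rest_injective f P hf h)]
  exact Finset.sum_le_sum_of_subset_of_nonneg (Finset.subset_univ _)
    (fun t _ _ => Finset.prod_nonneg fun i _ => pow_nonneg hA _)

theorem card_fibres [Finite α] {ι : Type*} [Fintype ι] (f : α → ι) :
    ∑ i, Nat.card {a // f a = i} = Nat.card α := by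
  rw [← Nat.card_sigma]
  exact Nat.card_congr (Equiv.sigmaFiberEquiv f)

/-- A maximal subgroup of a finite `p`-group is normal of index `p`. -/
theorem coatom_normal_index {P : Type*} [Group P] [Finite P] {p : ℕ} [hp : Fact p.Prime]
    (hP : IsPGroup p P) {K : Subgroup P} (hK : IsCoatom K) : K.Normal ∧ K.index = p := by
  haveI := hP.isNilpotent
  have hn : K.Normal := Subgroup.NormalizerCondition.normal_of_coatom K
    Group.normalizerCondition_of_isNilpotent hK
  refine ⟨hn, ?_⟩
  haveI := hn
  have hQ : IsPGroup p (P ⧸ K) := hP.to_quotient K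
  have hne : Nat.card (P ⧸ K) ≠ 1 := by
    intro h
    exact hK.1 (Subgroup.index_eq_one.mp h)
  have hd : p ∣ Nat.card (P ⧸ K) := by
    obtain ⟨k, hk⟩ := IsPGroup.iff_card.mp hQ
    rcases Nat.eq_zero_or_pos k with h | h
    · subst h; simp_all
    · rw [hk]; exact dvd_pow_self p h.ne'
  obtain ⟨z, hz⟩ := exists_prime_orderOf_dvd_card' p hd
  have h1 : K ≤ (Subgroup.zpowers z).comap (QuotientGroup.mk' K) := by
    intro k hk
    rw [Subgroup.mem_comap, QuotientGroup.mk'_apply, (QuotientGroup.eq_one_iff k).mpr hk]
    exact Subgroup.one_mem _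
  have h2 : (Subgroup.zpowers z).comap (QuotientGroup.mk' K) = ⊤ := by
    rcases h1.lt_or_eq with h | h
    · exact hK.2 _ h
    · exfalso
      obtain ⟨g, hg⟩ := QuotientGroup.mk'_surjective K z
      have hgK : g ∈ K := by
        rw [h, Subgroup.mem_comap, hg]
        exact Subgroup.mem_zpowers z
      rw [QuotientGroup.mk'_apply, (QuotientGroup.eq_one_iff g).mpr hgK] at hg
      rw [← hg, orderOf_one] at hz
      exact hp.out.one_lt.ne hz
  have h3 : Subgroup.zpowers z = ⊤ := by
    rw [← Subgroup.map_comap_eq_self_of_surjective (QuotientGroup.mk'_surjective K)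
      (Subgroup.zpowers z), h2]
    exact Subgroup.map_top_of_surjective _ (QuotientGroup.mk'_surjective K)
  rw [Subgroup.index_eq_card, ← Subgroup.card_top, ← h3, Nat.card_zpowers, hz]

theorem wsum_le {p : ℕ} [hp : Fact p.Prime] {A B δ : ℝ} (hc : Consts p A B δ) :
    ∀ (d : ℕ), 1 ≤ d → ∀ (α : Type u) [Finite α], Nat.card α = d →
      ∀ P : Subgroup (Equiv.Perm α), IsPGroup p P → wsum A P ≤ B ^ d - δ := by
  intro d
  induction d using Nat.strong_induction_on with
  | _ d ih =>
  intro hd α _ hcard P hP
  classical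
  haveI := Fintype.ofFinite α
  haveI : Fintype P := Fintype.ofFinite _
  have hA : 0 ≤ A := by linarith [hc.one_le]
  have hB := hc.one_le_B
  have hne : Nonempty α := by
    rw [← not_isEmpty_iff]
    intro h
    rw [Nat.card_of_isEmpty] at hcard
    omega
  obtain ⟨a0⟩ := hne
  by_cases htr : ∀ a b : α, ∃ g : P, g • a = b
  · rcases eq_or_lt_of_le hd with h1 | h1
    · -- one point
      subst h1
      obtain ⟨hsub, _⟩ := Nat.card_eq_one_iff_unique.mp hcard
      haveI := hsub
      have hs : ∀ x : P, cyc (x : Equiv.Perm α) = 1 := by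
        intro x
        rw [cyc, Nat.card_eq_one_iff_unique]
        refine ⟨⟨fun u v => ?_⟩, ⟨Quotient.mk _ a0⟩⟩
        obtain ⟨a, rfl⟩ := Quotient.exists_rep u
        obtain ⟨b, rfl⟩ := Quotient.exists_rep v
        rw [Subsingleton.elim a b]
      rw [wsum_eq, Finset.sum_congr rfl (fun x _ => by rw [hs x])]
      have : Subsingleton P := inferInstance
      rw [Fintype.sum_subsingleton _ (1 : P), pow_one, pow_one]
      linarith [hc.step]
    -- transitive
    have hstab : MulAction.stabilizer P a0 ≠ ⊤ := by
      intro h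
      have : ∀ b : α, b = a0 := by
        intro b
        obtain ⟨g, hg⟩ := htr a0 b
        rw [← hg]
        exact MulAction.mem_stabilizer_iff.mp (h ▸ Subgroup.mem_top g)
      haveI : Subsingleton α := ⟨fun a b => (this a).trans (this b).symm⟩
      have : Nat.card α = 1 := Nat.card_of_subsingleton a0
      omega
    obtain ⟨K, hK, hSK⟩ := (eq_top_or_exists_le_coatom (MulAction.stabilizer P a0)).resolve_left
      hstab
    obtain ⟨hKn, hKi⟩ := coatom_normal_index hP hK
    haveI := hKn
    haveI : Fintype (P ⧸ K) := Fintype.ofFinite _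
    have hcardQ : Nat.card (P ⧸ K) = p := by rw [← Subgroup.index_eq_card, hKi]
    choose h hh using fun a => htr a0 a
    let f : α → P ⧸ K := fun a => QuotientGroup.mk (h a)
    have hf : ∀ (g : P) a, f (g • a) = (g : P ⧸ K) * f a := by
      intro g a
      show ((h (g • a) : P) : P ⧸ K) = ((g * h a : P) : P ⧸ K)
      apply QuotientGroup.eq.mpr
      apply hSK
      rw [MulAction.mem_stabilizer_iff, mul_smul, mul_smul, hh a, inv_smul_eq_iff, hh]
    let K' : Subgroup (Equiv.Perm α) := K.map P.subtype
    have hK'P : K' ≤ P := Subgroup.map_subtype_le K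
    have hfK : ∀ x ∈ K', ∀ a, f (x a) = f a := by
      rintro x ⟨k, hk, rfl⟩ a
      have := hf k a
      rw [(QuotientGroup.eq_one_iff k).mpr hk, one_mul] at this
      exact this
    obtain ⟨m, hm⟩ : ∃ m, m = Nat.card {a // f a = 1} := ⟨_, rfl⟩
    have hfib : ∀ q : P ⧸ K, Nat.card {a // f a = q} = m := by
      intro q
      rw [hm]
      obtain ⟨g, rfl⟩ := QuotientGroup.mk_surjective q
      refine (Nat.card_congr ((MulAction.toPerm g).subtypeEquiv (fun a => ?_))).symm
      show f a = 1 ↔ f (g • a) = _
      rw [hf]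
      constructor
      · intro e; rw [e, mul_one]
      · intro e; exact mul_left_cancel (e.trans (mul_one _).symm)
    have hdm : d = p * m := by
      rw [← hcard, ← card_fibres f, Finset.sum_congr rfl (fun q _ => hfib q), Finset.sum_const,
        Finset.card_univ, ← Nat.card_eq_fintype_card, hcardQ, smul_eq_mul]
    have hm1 : 1 ≤ m := by
      rcases Nat.eq_zero_or_pos m with h0 | h0
      · subst h0; simp at hdm; omega
      · exact h0
    have hmd : m < d := by
      rw [hdm]
      have := hp.out.two_le
      nlinarith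
    have hQp : ∀ q, IsPGroup p (rest f K' hfK q).range := fun q =>
      IsPGroup.of_surjective ((hP.to_le hK'P)) _ (MonoidHom.rangeRestrict_surjective _)
    have hQw : ∀ q, wsum A (rest f K' hfK q).range ≤ B ^ m - δ := fun q =>
      ih m hmd hm1 _ (hfib q) _ (hQp q)
    set w1 : ℝ := B ^ m - δ with hw1
    have hw1' : 0 ≤ w1 := le_trans (wsum_nonneg hA _) (hQw 1)
    have hQc : ∀ q, Nat.card (rest f K' hfK q).range ^ (p - 1) ≤ p ^ (m - 1) := by
      intro q
      haveI : Nonempty {a // f a = q} := (Nat.card_pos_iff.mp (by rw [hfib q]; omega)).1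
      have := pgroup_card_pow_le _ (hQp q)
      rwa [hfib q] at this
    -- split the sum over the cosets of `K`
    rw [wsum_eq, ← Finset.sum_fiberwise Finset.univ (fun x : P => (x : P ⧸ K)),
      ← Finset.add_sum_erase _ _ (Finset.mem_univ (1 : P ⧸ K))]
    have hone : ∑ x ∈ Finset.univ.filter (fun x : P => (x : P ⧸ K) = 1),
        A ^ cyc (x : Equiv.Perm α) ≤ w1 ^ p := by
      have h1 : wsum A K' ≤ ∏ q, wsum A (rest f K' hfK q).range := wsum_le_prod f K' hfK hA
      have h2 : ∏ q, wsum A (rest f K' hfK q).range ≤ w1 ^ p := by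
        calc _ ≤ ∏ _q : P ⧸ K, w1 := Finset.prod_le_prod (fun q _ => wsum_nonneg hA _)
              (fun q _ => hQw q)
          _ = w1 ^ p := by
            rw [Finset.prod_const, Finset.card_univ, ← Nat.card_eq_fintype_card, hcardQ]
      refine le_trans ?_ (h1.trans h2)
      haveI : Fintype K' := Fintype.ofFinite _
      rw [wsum_eq]
      apply le_of_eq
      refine Finset.sum_bij (fun x hx => (⟨(x : Equiv.Perm α), ⟨x, by
        simpa [QuotientGroup.eq_one_iff] using hx, rfl⟩⟩ : K')) (fun _ _ => Finset.mem_univ _)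
        ?_ ?_ (fun _ _ => rfl)
      · intro x _ y _ e
        exact Subtype.ext (congrArg (fun z : K' => (z : Equiv.Perm α)) e)
      · rintro ⟨_, k, hk, rfl⟩ _
        exact ⟨k, by simpa [QuotientGroup.eq_one_iff] using hk, rfl⟩
    have hrest : ∀ q : P ⧸ K, q ≠ 1 →
        ∑ x ∈ Finset.univ.filter (fun x : P => (x : P ⧸ K) = q), A ^ cyc (x : Equiv.Perm α) ≤
          (p : ℝ) ^ (m - 1) * B ^ m := by
      intro q hq
      set g := q.out with hg
      have hgq : (g : P ⧸ K) = q := by rw [hg]; exact QuotientGroup.out_eq' q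
      have hgo : orderOf q = p := orderOf_eq_prime (by rw [← hcardQ]; exact pow_card_eq_one') hq
      have hgen : ∀ r : P ⧸ K, r ∈ Subgroup.zpowers q := by
        intro r
        rw [zpowers_eq_top_of_prime_card hcardQ hq]
        exact Subgroup.mem_top r
      have hkmem : ∀ x : P, (x : P ⧸ K) = q → ((g⁻¹ * x : P) : Equiv.Perm α) ∈ K' := by
        intro x hx
        refine ⟨g⁻¹ * x, SetLike.mem_coe.mpr ?_, rfl⟩
        rw [← QuotientGroup.eq, hgq, hx]
      have hxpK : ∀ x : P, (x : P ⧸ K) = q → ((x ^ p : P) : Equiv.Perm α) ∈ K' := by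
        intro x hx
        refine ⟨x ^ p, SetLike.mem_coe.mpr ?_, rfl⟩
        rw [← QuotientGroup.eq_one_iff, QuotientGroup.mk_pow, hx, ← hgo, pow_orderOf_eq_one]
      let S := {x : P // (x : P ⧸ K) = q}
      let π2 : S → (rest f K' hfK 1).range := fun x =>
        (rest f K' hfK 1).rangeRestrict ⟨_, hxpK x.1 x.2⟩
      let π1 : S → ((r : {r : P ⧸ K // r ≠ 1}) → (rest f K' hfK r.1).range) := fun x r =>
        (rest f K' hfK r.1).rangeRestrict ⟨_, hkmem x.1 x.2⟩
      have hcyc : ∀ x : S, cyc ((x.1 : P) : Equiv.Perm α) =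
          cyc ((π2 x : (rest f K' hfK 1).range) : Equiv.Perm {a // f a = 1}) := by
        rintro ⟨x, hx⟩
        unfold cyc
        refine (Nat.card_eq_of_bijective (Quotient.map' (fun a => a.1) ?_) ⟨?_, ?_⟩).symm
        · intro a b hab
          have hab' : (((x ^ p : P) : Equiv.Perm α).subtypePerm (p := fun a => f a = 1)
              (fun c => by rw [hfK _ (hxpK x hx) c])).SameCycle a b := hab
          have : ((x ^ p : P) : Equiv.Perm α).SameCycle a.1 b.1 :=
            Equiv.Perm.sameCycle_subtypePerm.mp hab'
          rw [SubmonoidClass.coe_pow] at this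
          exact this.of_pow
        · intro u v huv
          obtain ⟨a, rfl⟩ := Quotient.exists_rep u
          obtain ⟨b, rfl⟩ := Quotient.exists_rep v
          obtain ⟨n, hn⟩ : (x : Equiv.Perm α).SameCycle a.1 b.1 := Quotient.exact huv
          apply Quotient.sound
          have e : (x ^ n) • a.1 = b.1 := by
            show ((x ^ n : P) : Equiv.Perm α) a.1 = b.1
            rw [SubgroupClass.coe_zpow]
            exact hn
          have e2 := hf (x ^ n) a.1
          rw [e, a.2, b.2, mul_one, QuotientGroup.mk_zpow, hx] at e2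
          have hdiv : (p : ℤ) ∣ n := by
            rw [← hgo]
            exact orderOf_dvd_iff_zpow_eq_one.mpr e2.symm
          obtain ⟨j, rfl⟩ := hdiv
          show (((x ^ p : P) : Equiv.Perm α).subtypePerm (p := fun a => f a = 1)
              (fun c => by rw [hfK _ (hxpK x hx) c])).SameCycle a b
          refine Equiv.Perm.sameCycle_subtypePerm.mpr ⟨j, ?_⟩
          rw [SubmonoidClass.coe_pow, ← zpow_natCast, ← zpow_mul]
          exact hn
        · intro z
          obtain ⟨a, rfl⟩ := Quotient.exists_rep z
          obtain ⟨n, hn⟩ := Subgroup.mem_zpowers_iff.mp (hgen (f a)⁻¹)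
          have hb : f ((x ^ n) • a) = 1 := by
            rw [hf, QuotientGroup.mk_zpow, hx, hn, inv_mul_cancel]
          refine ⟨Quotient.mk _ ⟨(x ^ n) • a, hb⟩, ?_⟩
          apply Quotient.sound
          refine Equiv.Perm.SameCycle.symm ⟨n, ?_⟩
          show ((x : Equiv.Perm α) ^ n) a = ((x ^ n : P) : Equiv.Perm α) a
          rw [SubgroupClass.coe_zpow]
      have hinj : Function.Injective fun x : S => (π1 x, π2 x) := by
        rintro ⟨x, hx⟩ ⟨y, hy⟩ hxy
        obtain ⟨e1, e2⟩ := Prod.ext_iff.mp hxy
        have hout : ∀ a, f a ≠ 1 → x • a = y • a := by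
          intro a ha
          have e : (g⁻¹ * x) • a = (g⁻¹ * y) • a :=
            congrArg (fun z => ((z ⟨f a, ha⟩).1 ⟨a, rfl⟩).1) e1
          rwa [mul_smul, mul_smul, smul_left_cancel_iff] at e
        have hin : ∀ a, f a = 1 → x • a = y • a := by
          intro a ha
          have e : (x ^ p) • a = (y ^ p) • a := congrArg (fun z => ((z.1) ⟨a, ha⟩).1) e2
          obtain ⟨k, hk⟩ : ∃ k, p = k + 1 := ⟨p - 1, by have := hp.out.one_lt; omega⟩
          have key : ∀ j ≤ k, ∀ b, f b = q → (x ^ j) • b = (y ^ j) • b ∧
              f ((x ^ j) • b) = q ^ (j + 1) := by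
            intro j
            induction j with
            | zero => intro _ b hb; simp [hb]
            | succ j ihj =>
              intro hj b hb
              obtain ⟨i1, i2⟩ := ihj (by omega) b hb
              refine ⟨?_, ?_⟩
              · rw [pow_succ', pow_succ', mul_smul, mul_smul, ← i1]
                apply hout
                rw [i2]
                intro hc'
                have := orderOf_dvd_of_pow_eq_one hc'
                rw [hgo] at this
                have := Nat.le_of_dvd (by omega) this
                omega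
              · rw [pow_succ', mul_smul, hf, hx, i2, ← pow_succ']
          have fx : f (x • a) = q := by rw [hf, hx, ha, mul_one]
          have fy : f (y • a) = q := by rw [hf, hy, ha, mul_one]
          rw [hk, pow_succ, pow_succ, mul_smul, mul_smul, ← (key k le_rfl _ fy).1,
            smul_left_cancel_iff] at e
          exact e
        apply Subtype.ext
        apply Subtype.ext
        ext a
        by_cases ha : f a = 1
        · exact hin a ha
        · exact hout a ha
      haveI : Fintype (rest f K' hfK 1).range := Fintype.ofFinite _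
      haveI : Fintype ((r : {r : P ⧸ K // r ≠ 1}) → (rest f K' hfK r.1).range) :=
        Fintype.ofFinite _
      calc ∑ x ∈ Finset.univ.filter (fun x : P => (x : P ⧸ K) = q), A ^ cyc (x : Equiv.Perm α)
          = ∑ x : S, A ^ cyc ((π2 x : (rest f K' hfK 1).range) : Equiv.Perm {a // f a = 1}) := by
            rw [Finset.sum_subtype (p := fun x : P => (x : P ⧸ K) = q) _ (by simp)]
            exact Finset.sum_congr rfl fun x _ => by rw [hcyc x]
        _ ≤ ∑ t : ((r : {r : P ⧸ K // r ≠ 1}) → (rest f K' hfK r.1).range) ×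
              (rest f K' hfK 1).range, A ^ cyc (t.2 : Equiv.Perm {a // f a = 1}) := by
            rw [← Finset.sum_image (f := fun t : _ × (rest f K' hfK 1).range =>
              A ^ cyc (t.2 : Equiv.Perm {a // f a = 1})) (g := fun x : S => (π1 x, π2 x))
              (fun a _ b _ e => hinj e)]
            exact Finset.sum_le_sum_of_subset_of_nonneg (Finset.subset_univ _)
              (fun t _ _ => pow_nonneg hA _)
        _ ≤ (p : ℝ) ^ (m - 1) * B ^ m := by
            rw [Fintype.sum_prod_type]
            simp only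
            rw [Finset.sum_const, Finset.card_univ, nsmul_eq_mul,
              ← wsum_eq A (rest f K' hfK 1).range, ← Nat.card_eq_fintype_card, Nat.card_pi]
            apply mul_le_mul ?_ (le_trans (hQw 1) (by linarith [hc.nonneg]))
              (wsum_nonneg hA _) (by positivity)
            rw [← Nat.cast_pow, Nat.cast_le]
            apply le_of_pow_le_pow_left₀ (n := p - 1) (by have := hp.out.one_lt; omega) (by positivity)
            rw [← Finset.prod_pow]
            calc ∏ r : {r : P ⧸ K // r ≠ 1}, Nat.card (rest f K' hfK r.1).range ^ (p - 1)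
                ≤ ∏ _r : {r : P ⧸ K // r ≠ 1}, p ^ (m - 1) :=
                  Finset.prod_le_prod' fun r _ => hQc r.1
              _ = (p ^ (m - 1)) ^ (p - 1) := by
                  rw [Finset.prod_const, Finset.card_univ, Fintype.card_subtype_compl,
                    Fintype.card_subtype_eq, ← Nat.card_eq_fintype_card, hcardQ]
    rw [hdm]
    refine le_trans (add_le_add hone (Finset.sum_le_sum
      (fun q hq => hrest q (Finset.ne_of_mem_erase hq)))) ?_
    rw [Finset.sum_const, Finset.card_erase_of_mem (Finset.mem_univ _), Finset.card_univ,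
      ← Nat.card_eq_fintype_card, hcardQ, nsmul_eq_mul]
    have := hc.combine hp.out.two_le m hm1 w1 hw1' le_rfl
    rw [Nat.cast_sub hp.out.one_le, Nat.cast_one, ← mul_assoc]
    exact this
  · -- intransitive
    push Not at htr
    obtain ⟨a, b, hab⟩ := htr
    haveI : Fintype (MulAction.orbitRel.Quotient P α) := Fintype.ofFinite _
    let f : α → MulAction.orbitRel.Quotient P α := fun c => Quotient.mk _ c
    have hf : ∀ x ∈ P, ∀ c, f (x c) = f c := fun x hx c =>
      Quotient.sound ⟨⟨x, hx⟩, rfl⟩
    have hlt : ∀ i, Nat.card {c // f c = i} < d := by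
      intro i
      rw [← hcard]
      apply Finite.card_subtype_lt (x := if f a = i then b else a)
      split_ifs with h
      · intro hb
        obtain ⟨g, hg⟩ := Quotient.exact (hb.trans h.symm)
        exact hab g hg
      · exact h
    have hpos : ∀ i, 1 ≤ Nat.card {c // f c = i} := by
      intro i
      obtain ⟨c, rfl⟩ := Quotient.exists_rep i
      haveI : Nonempty {c' // f c' = f c} := ⟨⟨c, rfl⟩⟩
      exact Nat.card_pos
    calc wsum A P ≤ ∏ i, wsum A (rest f P hf i).range := wsum_le_prod f P hf hA
      _ ≤ B ^ (∑ i, Nat.card {c // f c = i}) - δ :=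
        hc.prod_le Finset.univ _ ⟨f a, Finset.mem_univ _⟩ _ (fun i _ => wsum_nonneg hA _)
          (fun i _ => ih _ (hlt i) (hpos i) _ rfl _
            (IsPGroup.of_surjective hP _ (MonoidHom.rangeRestrict_surjective _)))
      _ = B ^ d - δ := by rw [card_fibres, hcard]

end Cfsg.Agent.Lib.ClassBound
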